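import Groth.Agent.Lib.StAlg.Descent
import Groth.Agent.Lib.StAlg16.LocPInst
import Groth.Agent.Lib.AffGrp19.Basic
import Groth.Agent.Lib.QA11.Basic
import Groth.Prelude.Def_StGerb2
import Groth.Prelude.Def_AlgSp3

/-!
# The stabiliser group scheme of a point as a pullback of the diagonal
-/

universe u

open CategoryTheory CategoryTheory.Functor CategoryTheory.Limits AlgebraicGeometry Opposite

set_option linter.style.haveILetI false
set_option linter.unusedSectionVars false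
set_option backward.isDefEq.respectTransparency false
set_option backward.isDefEq.respectTransparency.types false

namespace Groth.Agent.AutGrp14

open Groth.Agent.FC16 Groth.Agent.StAlg

variable {S : Scheme.{u}} {𝒳 : AlgSt.Cat S} {U : Over S} (x : FibCat.overCat U ⥤ᵇ 𝒳) (G : Over U.left)
  [GrpObj G] (hG : Gerb.AutRep x (Gerb.ptsGrp U G))

/-- the group as a scheme over `S` -/
abbrev tot : Over S := Over.mk (G.hom ≫ U.hom)

/-- its projection -/
abbrev proj : tot G ⟶ U := Over.homMk G.hom rfl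

/-- the point of the group given by a map to it -/
def pt (h : Over (tot G)) :
    (Over.iteratedSliceForward U).obj ((AlgSt.overMap (proj G)).obj h) ⟶ G :=
  Over.homMk h.hom.left rfl

/-- the automorphism given by a map to the group -/
noncomputable def aut (h : Over (tot G)) : Gerb.AutO (x.obj ((AlgSt.overMap (proj G)).obj h)) :=
  hG.iso _ (pt G h)

theorem aut_natural {a b : Over (tot G)} (f : a ⟶ b) :
    (aut x G hG a).hom.1 ≫ x.map ((AlgSt.overMap (proj G)).map f) =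
      x.map ((AlgSt.overMap (proj G)).map f) ≫ (aut x G hG b).hom.1 := by
  have e : (Gerb.ptsGrp U G).map ((AlgSt.overMap (proj G)).map f).op (pt G b) = pt G a :=
    Over.OverMorphism.ext (congrArg (fun t => t.left) (Over.w f))
  have h1 := hG.natural ((AlgSt.overMap (proj G)).map f) (pt G b)
  rw [e] at h1
  exact h1

theorem map_aut {T : Over U} (α : Gerb.AutO (x.obj T)) : 𝒳.p.map α.hom.1 = 𝟙 (𝒳.p.obj (x.obj T)) := by
  haveI := α.hom.2
  rw [IsHomLift.fac' 𝒳.p (𝟙 (𝒳.p.obj (x.obj T))) α.hom.1]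
  simp

theorem lift_autO {T : Over U} (α : Gerb.AutO (x.obj T)) : 𝒳.p.IsHomLift (𝟙 T.left) α.hom.1 :=
  IsHomLift.of_fac' 𝒳.p _ _ (x.w_obj T) (x.w_obj T) (by rw [map_aut x α]; simp)

/-- an automorphism as an isomorphism between diagonal pairs -/
noncomputable def diagAut {T : Over U} (α : Gerb.AutO (x.obj T)) :
    (FibCat.diag (FibCat.toSelf 𝒳)).obj (x.obj T) ≅ (FibCat.diag (FibCat.toSelf 𝒳)).obj (x.obj T) :=
  fpIsoMk ⟨α.hom.1, α.inv.1, congrArg Subtype.val α.hom_inv_id, congrArg Subtype.val α.inv_hom_id⟩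
    (Iso.refl _) (by
      show 𝒳.p.map α.hom.1 ≫ 𝟙 _ = 𝟙 _ ≫ 𝒳.p.map (𝟙 _)
      rw [map_aut x α, CategoryTheory.Functor.map_id])

/-- the comparison functor -/
noncomputable def toFp : FibCat.overCat (tot G) ⥤ᵇ
    FibCat.fp (BasedFunctor.comp x (FibCat.diag (FibCat.toSelf 𝒳))) (FibCat.diag (FibCat.toSelf 𝒳)) where
  toFunctor :=
    { obj := fun h => fpObj ((AlgSt.overMap (proj G)).obj h) (x.obj ((AlgSt.overMap (proj G)).obj h))
        (diagAut x (aut x G hG h)) (U := h.left) rfl (by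
          haveI : 𝒳.p.IsHomLift (𝟙 h.left) (diagAut x (aut x G hG h)).hom.hom.fst :=
            lift_autO x (aut x G hG h)
          exact isHomLift_of_fst (𝟙 h.left) (diagAut x (aut x G hG h)).hom)
      map := fun {a b} f => fpHom ((AlgSt.overMap (proj G)).map f) (x.map ((AlgSt.overMap (proj G)).map f))
        (fp_hom_ext (aut_natural x G hG f).symm
          ((Category.comp_id _).trans (Category.id_comp _).symm))
      map_id := fun a => fp_hom_ext ((AlgSt.overMap (proj G)).map_id a)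
        ((congrArg x.map ((AlgSt.overMap (proj G)).map_id a)).trans (x.map_id _))
      map_comp := fun f g => fp_hom_ext ((AlgSt.overMap (proj G)).map_comp f g)
        ((congrArg x.map ((AlgSt.overMap (proj G)).map_comp f g)).trans (x.map_comp _ _)) }
  w := rfl

theorem isEquivOver_toFp (h : FibCat.IsFibGrpd 𝒳.p) : FibCat.IsEquivOver (toFp x G hG) := by
  haveI : (toFp x G hG).toFunctor.Faithful := ⟨fun {a b f g} e =>
    Over.OverMorphism.ext (congrArg (fun t => t.hom.fst.left) e)⟩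
  haveI : (toFp x G hG).toFunctor.Full := ⟨fun {a b} π => by
    let β : (AlgSt.overMap (proj G)).obj a ⟶ (AlgSt.overMap (proj G)).obj b := π.hom.fst
    have hw := fp_w π
    have w₁ : x.map β ≫ (aut x G hG b).hom.1 = (aut x G hG a).hom.1 ≫ π.hom.snd :=
      congrArg (fun t => t.hom.fst) hw
    have w₂ : x.map β ≫ 𝟙 _ = 𝟙 _ ≫ π.hom.snd := congrArg (fun t => t.hom.snd) hw
    rw [Category.comp_id, Category.id_comp] at w₂
    rw [← w₂] at w₁
    let g' := (Gerb.ptsGrp U G).map β.op (pt G b)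
    have h1 := hG.natural β (pt G b)
    have h2 : (aut x G hG a).hom.1 ≫ x.map β = (hG.iso _ g').hom.1 ≫ x.map β := w₁.symm.trans h1.symm
    haveI := map_over_lift x β
    haveI := FC16.isStronglyCartesian h β.left (x.map β)
    have h3 : (aut x G hG a).hom.1 = (hG.iso _ g').hom.1 := by
      haveI : 𝒳.p.IsHomLift (𝟙 a.left) (aut x G hG a).hom.1 := lift_autO x (aut x G hG a)
      haveI : 𝒳.p.IsHomLift (𝟙 a.left) (hG.iso _ g').hom.1 := lift_autO x (hG.iso _ g')
      exact IsStronglyCartesian.ext 𝒳.p β.left (x.map β) (𝟙 a.left) h2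
    have h4 : pt G a = g' := (hG.iso _).injective (Iso.ext (Fiber.hom_ext h3))
    have h5 : a.hom.left = β.left.left ≫ b.hom.left := congrArg CommaMorphism.left h4
    refine ⟨Over.homMk β.left (Over.OverMorphism.ext h5.symm), fp_hom_ext ?_ ?_⟩
    · exact Over.OverMorphism.ext rfl
    · exact (congrArg x.map (Over.OverMorphism.ext rfl)).trans w₂⟩
  refine FC16.isEquivOver_of _ fun z => ?_
  let b : Over U := z.obj.fst
  let w : 𝒳.obj := z.obj.snd
  let φ₁ : x.obj b ⟶ w := z.obj.iso.hom.hom.fst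
  let φ₂ : x.obj b ⟶ w := z.obj.iso.hom.hom.snd
  haveI := iso_lift z (U := b.left) rfl
  haveI l1 : 𝒳.p.IsHomLift (𝟙 b.left) φ₁ := isHomLift_fst (𝟙 b.left) z.obj.iso.hom
  haveI l2 : 𝒳.p.IsHomLift (𝟙 b.left) φ₂ := isHomLift_snd (𝟙 b.left) z.obj.iso.hom
  haveI : IsIso φ₁ := FC16.isIso_of_isHomLift h (𝟙 b.left) φ₁
  haveI : IsIso φ₂ := FC16.isIso_of_isHomLift h (𝟙 b.left) φ₂
  have l3 : 𝒳.p.IsHomLift (𝟙 (𝒳.p.obj (x.obj b))) (φ₁ ≫ inv φ₂) := by
    haveI l4 : 𝒳.p.IsHomLift (𝟙 b.left ≫ inv (𝟙 b.left)) (φ₁ ≫ inv φ₂) := inferInstance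
    refine IsHomLift.of_fac' 𝒳.p _ _ rfl rfl ?_
    rw [IsHomLift.fac' 𝒳.p (𝟙 b.left ≫ inv (𝟙 b.left)) (φ₁ ≫ inv φ₂)]
    simp
  let τ : x.obj b ≅ x.obj b := asIso (φ₁ ≫ inv φ₂)
  haveI : 𝒳.p.IsHomLift (𝟙 (𝒳.p.obj (x.obj b))) τ.hom := l3
  let α : Gerb.AutO (x.obj b) :=
    { hom := ⟨τ.hom, l3⟩
      inv := ⟨τ.inv, IsHomLift.lift_id_inv 𝒳.p _ τ⟩
      hom_inv_id := Fiber.hom_ext τ.hom_inv_id
      inv_hom_id := Fiber.hom_ext τ.inv_hom_id }
  obtain ⟨g, hg⟩ := (hG.iso b).surjective α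
  let g₀ : (Over.iteratedSliceForward U).obj b ⟶ G := g
  have hgw : g₀.left ≫ G.hom = b.hom.left := Over.w g₀
  let a₀ : Over (tot G) := Over.mk (Over.homMk g₀.left (by
    show g₀.left ≫ G.hom ≫ U.hom = b.left.hom
    rw [reassoc_of% hgw]
    exact Over.w b.hom) : b.left ⟶ tot G)
  let b' := (AlgSt.overMap (proj G)).obj a₀
  let d₁ : b' ≅ b := Over.isoMk (Iso.refl _) (Over.OverMorphism.ext (by
    show (𝟙 b.left : b.left ⟶ b.left).left ≫ b.hom.left = g₀.left ≫ G.hom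
    rw [hgw, Over.id_left]
    exact Category.id_comp _))
  let d₂ : x.obj b' ≅ w := x.toFunctor.mapIso d₁ ≪≫ asIso φ₂
  have e : (Gerb.ptsGrp U G).map d₁.hom.op g = pt G a₀ := Over.OverMorphism.ext (Category.id_comp _)
  have h6 := hG.natural d₁.hom g
  rw [e, hg] at h6
  have hw : (BasedFunctor.comp x (FibCat.diag (FibCat.toSelf 𝒳))).map d₁.hom ≫ z.obj.iso.hom =
      (diagAut x (aut x G hG a₀)).hom ≫ (FibCat.diag (FibCat.toSelf 𝒳)).map d₂.hom := by
    refine fp_hom_ext ?_ ?_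
    · show x.map d₁.hom ≫ φ₁ = (aut x G hG a₀).hom.1 ≫ x.map d₁.hom ≫ φ₂
      rw [← Category.assoc ((aut x G hG a₀).hom.1),
        show (aut x G hG a₀).hom.1 ≫ x.map d₁.hom = x.map d₁.hom ≫ φ₁ ≫ inv φ₂ from h6]
      simp
    · show x.map d₁.hom ≫ φ₂ = 𝟙 _ ≫ x.map d₁.hom ≫ φ₂
      rw [Category.id_comp]
  let d : (toFp x G hG).obj a₀ ≅ z := fpIsoMk d₁ d₂ hw
  refine ⟨a₀, d, ?_⟩
  haveI : (FibCat.overCat U).p.IsHomLift (𝟙 b.left) d.hom.hom.fst :=
    IsHomLift.map (FibCat.overCat U).p d₁.hom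
  exact isHomLift_of_fst (𝟙 b.left) d.hom

include hG in
/-- a property of the diagonal holds for the stabiliser group -/
theorem prop_proj (h : FibCat.IsFibGrpd 𝒳.p) {P : MorphismProperty (AlgSp.Sp S)} (hPb : PbP P)
    (hloc : AlgSp.IsLocalOnBase AlgSp.IsFppfCover P)
    (hd : AlgSt.RepByAlgSpWith P (FibCat.diag (FibCat.toSelf 𝒳))) : P ((AlgSp.yon S).map (proj G)) := by
  have h1 := with_fpFst (BasedFunctor.comp x (FibCat.diag (FibCat.toSelf 𝒳))) hd
  have h2 := (with_congr (f := FibCat.fpFst (BasedFunctor.comp x (FibCat.diag (FibCat.toSelf 𝒳))) (FibCat.diag (FibCat.toSelf 𝒳)))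
    (f' := Stk.ofPshMap ((AlgSp.yon S).map (proj G)).hom)
    (a := BasedFunctor.comp (AlgSt.toOverCat (tot G)) (toFp x G hG)) (b := AlgSt.toOverCat U)
    (isEquivOver_comp (toOverCat_isEquivOver _) (isEquivOver_toFp x G hG h)) (toOverCat_isEquivOver U)
    (overMapIso (proj G))).1 h1
  exact desc_of_local hloc (AlgSp.IsAlgSpace.yon_obj _) (AlgSp.IsAlgSpace.yon_obj _) _
    (repBySpWith_of_with (preIso_of_pullback hPb) h2)

end Groth.Agent.AutGrp14
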